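import Groth.Prelude.Def_MoreMor
import Mathlib.AlgebraicGeometry.Sites.EtalePoint
import Mathlib.AlgebraicGeometry.Morphisms.FlatDescent
import Mathlib.AlgebraicGeometry.ZariskisMainTheorem
import Mathlib.RingTheory.Etale.QuasiFinite
import Mathlib.Topology.Semicontinuity.Basic

/-!
# The number of geometric points in the fibres of a separated étale morphism
-/

set_option autoImplicit false
set_option linter.style.haveILetI false
set_option backward.isDefEq.respectTransparency.types false
set_option backward.isDefEq.respectTransparency false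
universe u

open CategoryTheory CategoryTheory.Limits AlgebraicGeometry TopologicalSpace

namespace Groth.Agent.EtCard

variable {X Y : Scheme.{u}}

/-- The points of `f` over `s`. -/
abbrev Pts {T : Scheme.{u}} (f : X ⟶ Y) (s : T ⟶ Y) : Type u := {z : T ⟶ X // z ≫ f = s}

/-- A field-valued point at the point of a section factors through the section. -/
theorem eq_comp_section {G : Scheme.{u}} {K Ω : Type u} [Field K] [Field Ω]
    (g : G ⟶ Spec (CommRingCat.of K)) (l : Spec (CommRingCat.of K) ⟶ G) (hl : l ≫ g = 𝟙 _)
    (z : Spec (CommRingCat.of Ω) ⟶ G) (h : l default = z default) : z = (z ≫ g) ≫ l := by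
  obtain ⟨x, c, rfl⟩ : ∃ (x : G) (c : G.residueField x ⟶ CommRingCat.of Ω),
      Spec.map c ≫ G.fromSpecResidueField x = z :=
    ⟨_, _, (Scheme.SpecToEquivOfField Ω G).left_inv z⟩
  obtain ⟨x', a, rfl⟩ : ∃ (x' : G) (a : G.residueField x' ⟶ CommRingCat.of K),
      Spec.map a ≫ G.fromSpecResidueField x' = l :=
    ⟨_, _, (Scheme.SpecToEquivOfField K G).left_inv l⟩
  obtain rfl : x' = x := by
    rw [Scheme.Hom.comp_apply, Scheme.Hom.comp_apply, Scheme.fromSpecResidueField_apply,
      Scheme.fromSpecResidueField_apply] at h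
    exact h
  have e : Spec.preimage (G.fromSpecResidueField x' ≫ g) ≫ a = 𝟙 _ := by
    apply Spec.map_injective
    rw [Spec.map_comp, Spec.map_preimage, Spec.map_id, ← Category.assoc, hl]
  haveI : IsIso a := (ConcreteCategory.isIso_iff_bijective a).mpr
    ⟨RingHom.injective _, fun k => ⟨_, congrArg (fun m => m.hom k) e⟩⟩
  conv_lhs => rw [← IsIso.inv_hom_id_assoc (Spec.map a) (G.fromSpecResidueField x'), ← Category.assoc]
  congr 1
  rw [IsIso.comp_inv_eq, Category.assoc, Category.assoc]
  have e' : (G.fromSpecResidueField x' ≫ g) ≫ Spec.map a = 𝟙 _ := by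
    rw [← cancel_epi (Spec.map a), ← Category.assoc, ← Category.assoc, hl, Category.id_comp, Category.comp_id]
  rw [← Category.assoc (G.fromSpecResidueField x') g, e', Category.comp_id]

/-- Over a separably closed field, the points of an étale scheme with values in any field are its points. -/
theorem bijective_pt {G : Scheme.{u}} {K Ω : Type u} [Field K] [IsSepClosed K] [Field Ω]
    (g : G ⟶ Spec (CommRingCat.of K)) [Etale g] (b : Spec (CommRingCat.of Ω) ⟶ Spec (CommRingCat.of K)) :
    Function.Bijective (fun z : Pts g b => z.1 (default : Spec (CommRingCat.of Ω))) := by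
  refine ⟨fun z z' h => Subtype.ext ?_, fun w => ?_⟩
  · obtain ⟨l, hl, hlw⟩ := Scheme.exists_fac_of_etale_of_isSepClosed g (𝟙 _) (z.1 default) (Subsingleton.elim _ _)
    rw [eq_comp_section g l hl z.1 hlw, eq_comp_section g l hl z'.1 (hlw.trans h), z.2, z'.2]
  · obtain ⟨l, hl, hlw⟩ := Scheme.exists_fac_of_etale_of_isSepClosed g (𝟙 _) w (Subsingleton.elim _ _)
    refine ⟨⟨b ≫ l, by rw [Category.assoc, hl, Category.comp_id]⟩, ?_⟩
    show (b ≫ l) default = w
    rw [Scheme.Hom.comp_apply, Subsingleton.elim (b default) default, hlw]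

variable (f : X ⟶ Y)

/-- The points over a separably closed field are counted by the geometric fibre. -/
theorem card_pts [Etale f] {Ω : Type u} [Field Ω] [IsSepClosed Ω]
    (s : Spec (CommRingCat.of Ω) ⟶ Y) (y : Y) (hy : s default = y) :
    ENat.card (Pts f s) = ENat.card ↥(MoreMor.geomFiber f y) := by
  obtain ⟨y', a, rfl⟩ : ∃ (y' : Y) (a : Y.residueField y' ⟶ CommRingCat.of Ω),
      Spec.map a ≫ Y.fromSpecResidueField y' = s :=
    ⟨_, _, (Scheme.SpecToEquivOfField Ω Y).left_inv s⟩
  obtain rfl : y' = y := by
    rw [Scheme.Hom.comp_apply, Scheme.fromSpecResidueField_apply] at hy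
    exact hy
  letI := a.hom.toAlgebra
  let β : SeparableClosure (Y.residueField y') →ₐ[Y.residueField y'] Ω := IsSepClosed.lift
  let ξ : Spec (CommRingCat.of (SeparableClosure (Y.residueField y'))) ⟶ Spec (Y.residueField y') :=
    Spec.map (CommRingCat.ofHom (algebraMap (Y.residueField y') (SeparableClosure (Y.residueField y'))))
  let g : MoreMor.geomFiber f y' ⟶ Spec (CommRingCat.of (SeparableClosure (Y.residueField y'))) :=
    pullback.snd (f.fiberToSpecResidueField y') ξ
  haveI : Etale g := MorphismProperty.of_isPullback (P := @Etale) (IsPullback.of_hasPullback _ _)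
    (inferInstance : Etale (f.fiberToSpecResidueField y'))
  let b := Spec.map (CommRingCat.ofHom β.toRingHom)
  have hb : b ≫ ξ = Spec.map a := by
    rw [← Spec.map_comp]
    exact congrArg Spec.map (CommRingCat.hom_ext β.comp_algebraMap)
  have sq : IsPullback (pullback.fst (f.fiberToSpecResidueField y') ξ ≫ f.fiberι y') g f
      (ξ ≫ Y.fromSpecResidueField y') :=
    (IsPullback.of_hasPullback (f.fiberToSpecResidueField y') ξ).paste_horiz
      (IsPullback.of_hasPullback f (Y.fromSpecResidueField y'))
  let e : Pts f (Spec.map a ≫ Y.fromSpecResidueField y') ≃ Pts g b :=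
    { toFun := fun z => ⟨sq.lift z.1 b (by rw [z.2, ← hb, Category.assoc]), sq.lift_snd _ _ _⟩
      invFun := fun w => ⟨w.1 ≫ pullback.fst _ _ ≫ f.fiberι y', by
        rw [Category.assoc, sq.w, ← Category.assoc, w.2, ← Category.assoc, hb]⟩
      left_inv := fun z => Subtype.ext (sq.lift_fst _ _ _)
      right_inv := fun w => Subtype.ext (sq.hom_ext (sq.lift_fst _ _ _) ((sq.lift_snd _ _ _).trans w.2.symm)) }
  exact ENat.card_congr (e.trans (Equiv.ofBijective _ (bijective_pt g b)))

/-- The number of geometric points over `y`. -/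
noncomputable def N (y : Y) : ℕ∞ := ENat.card ↥(MoreMor.geomFiber f y)

/-- The complement of the diagonal. -/
noncomputable def offDiag [IsSeparated f] : (pullback f f).Opens :=
  ⟨(Set.range (pullback.diagonal f))ᶜ, (pullback.diagonal f).isClosedEmbedding.isClosed_range.isOpen_compl⟩

/-- The other points over `X`. -/
noncomputable abbrev others [IsSeparated f] : (offDiag f).toScheme ⟶ X := (offDiag f).ι ≫ pullback.fst f f

variable [Etale f] [IsSeparated f]

/-- The complement of the diagonal is closed. -/
theorem isClosedImmersion_offDiag : IsClosedImmersion (offDiag f).ι := by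
  refine IsClosedImmersion.of_isPreimmersion _ ?_
  rw [Scheme.Opens.range_ι]
  exact ((pullback.diagonal f).isOpenEmbedding.isOpen_range).isClosed_compl

/-- Removing one point. -/
theorem card_others {Ω : Type u} [Field Ω] [IsSepClosed Ω] (x : Spec (CommRingCat.of Ω) ⟶ X) :
    ENat.card (Pts f (x ≫ f)) = ENat.card (Pts (others f) x) + 1 := by
  classical
  let x₀ : Pts f (x ≫ f) := ⟨x, rfl⟩
  have hmem : ∀ z : Pts f (x ≫ f), z ≠ x₀ → ∀ t, pullback.lift x z.1 z.2.symm t ∈ offDiag f := by
    intro z hz t ht
    refine hz (Subtype.ext ?_)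
    have hsub : Set.range (pullback.lift x z.1 z.2.symm) ⊆ Set.range (pullback.diagonal f) := by
      rintro _ ⟨t', rfl⟩
      rw [Subsingleton.elim t' t]
      exact ht
    have hl := IsOpenImmersion.lift_fac (pullback.diagonal f) _ hsub
    have h1 := congrArg (· ≫ pullback.fst f f) hl
    have h2 := congrArg (· ≫ pullback.snd f f) hl
    simp only [Category.assoc, pullback.diagonal_fst, pullback.diagonal_snd, Category.comp_id,
      pullback.lift_fst, pullback.lift_snd] at h1 h2
    exact h2.symm.trans h1
  have hne : ∀ w : Pts (others f) x, w.1 ≫ (offDiag f).ι ≫ pullback.snd f f ≠ x := by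
    intro w hw
    have h1 : w.1 ≫ (offDiag f).ι = x ≫ pullback.diagonal f := by
      apply pullback.hom_ext
      · rw [Category.assoc, Category.assoc, pullback.diagonal_fst, Category.comp_id]
        exact w.2
      · rw [Category.assoc, Category.assoc, pullback.diagonal_snd, Category.comp_id]
        exact hw
    refine (w.1 default).2 ⟨x default, ?_⟩
    exact (congrArg (fun m => m (default : Spec (CommRingCat.of Ω))) h1).symm
  let e : Pts (others f) x ≃ {z : Pts f (x ≫ f) // z ≠ x₀} :=
    { toFun := fun w => ⟨⟨w.1 ≫ (offDiag f).ι ≫ pullback.snd f f, by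
          have h := congrArg (· ≫ f) w.2
          simp only [others, Category.assoc] at h
          rw [Category.assoc, Category.assoc, ← pullback.condition]
          exact h⟩,
        fun h => hne w (congrArg Subtype.val h)⟩
      invFun := fun z => ⟨IsOpenImmersion.lift (offDiag f).ι (pullback.lift x z.1.1 z.1.2.symm) (by
          rintro _ ⟨t, rfl⟩
          rw [Scheme.Opens.range_ι]
          exact hmem z.1 z.2 t), by
        rw [others, IsOpenImmersion.lift_fac_assoc, pullback.lift_fst]⟩
      left_inv := fun w => by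
        apply Subtype.ext
        rw [← cancel_mono (offDiag f).ι, IsOpenImmersion.lift_fac]
        apply pullback.hom_ext
        · rw [pullback.lift_fst, Category.assoc]
          exact w.2.symm
        · rw [pullback.lift_snd]
          exact (Category.assoc _ _ _).symm
      right_inv := fun z => by
        refine Subtype.ext (Subtype.ext ?_)
        show IsOpenImmersion.lift _ _ _ ≫ _ = _
        rw [IsOpenImmersion.lift_fac_assoc, pullback.lift_snd] }
  rw [ENat.card_congr e]
  rw [ENat.card_congr ((Equiv.optionSubtypeNe x₀).symm.trans (Equiv.optionEquivSumPUnit.{u} _)), ENat.card_sum]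
  simp

omit [IsSeparated f] in
theorem locallyQuasiFinite_of_etale : LocallyQuasiFinite f := by
  refine ⟨fun {U} hU {V} hV e => ?_⟩
  have h := HasRingHomProperty.appLE @Etale f ‹_› ⟨U, hU⟩ ⟨V, hV⟩ e
  algebraize [(f.appLE U V e).hom]
  exact inferInstanceAs (Algebra.QuasiFinite Γ(Y, U) Γ(X, V))

/-- A separably closed point over every point. -/
theorem exists_point {Z : Scheme.{u}} (x : Z) :
    ∃ (Ω : Type u) (_ : Field Ω) (_ : IsSepClosed Ω) (s : Spec (CommRingCat.of Ω) ⟶ Z), s default = x :=
  ⟨SeparableClosure (Z.residueField x), inferInstance, inferInstance,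
    (Spec.map (CommRingCat.ofHom (algebraMap (Z.residueField x) (SeparableClosure (Z.residueField x)))) :
      Spec (CommRingCat.of (SeparableClosure (Z.residueField x))) ⟶ Spec (Z.residueField x)) ≫
      Z.fromSpecResidueField x, by rw [Scheme.Hom.comp_apply, Scheme.fromSpecResidueField_apply]⟩

/-- The recursion for the number of points. -/
theorem N_apply (x : X) : N f (f x) = N (others f) x + 1 := by
  obtain ⟨Ω, _, _, s, rfl⟩ := exists_point x
  rw [N, N, ← card_pts f (s ≫ f) _ (Scheme.Hom.comp_apply _ _ _), ← card_pts (others f) s _ rfl]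
  exact card_others f s

omit [IsSeparated f] in
theorem N_pos_iff (y : Y) : 1 ≤ N f y ↔ y ∈ Set.range f := by
  obtain ⟨Ω, _, _, s, rfl⟩ := exists_point y
  rw [N, ← card_pts f s _ rfl, ENat.one_le_card_iff_nonempty]
  constructor
  · rintro ⟨z⟩
    exact ⟨z.1 default, congrArg (fun m => m (default : Spec (CommRingCat.of Ω))) z.2⟩
  · rintro ⟨x, hx⟩
    obtain ⟨l, hl, -⟩ := Scheme.exists_fac_of_etale_of_isSepClosed f s x hx
    exact ⟨⟨l, hl⟩⟩

/-- The superlevel sets. -/
theorem setOf_le_N_succ (n : ℕ) : {y | ((n + 1 : ℕ) : ℕ∞) ≤ N f y} = f '' {x | (n : ℕ∞) ≤ N (others f) x} := by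
  ext y
  constructor
  · intro hy
    obtain ⟨x, rfl⟩ := (N_pos_iff f y).mp (le_trans (by exact_mod_cast Nat.le_add_left 1 n) hy)
    refine ⟨x, ?_, rfl⟩
    rw [Set.mem_setOf_eq, N_apply f x, Nat.cast_add, Nat.cast_one] at hy
    exact (ENat.add_le_add_iff_right ENat.one_ne_top).mp hy
  · rintro ⟨x, hx, rfl⟩
    rw [Set.mem_setOf_eq, N_apply f x, Nat.cast_add, Nat.cast_one]
    exact add_le_add_left hx 1

omit f in
/-- The superlevel sets are open. -/
theorem isOpen_le_N (n : ℕ) : ∀ {X Y : Scheme.{u}} (f : X ⟶ Y) [Etale f] [IsSeparated f],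
    IsOpen {y | (n : ℕ∞) ≤ N f y} := by
  induction n with
  | zero => intro X Y f _ _; simp
  | succ n ih =>
    intro X Y f _ _
    rw [setOf_le_N_succ]
    exact f.isOpenMap _ (ih (others f))

omit f in
/-- The superlevel sets of a finite morphism are closed. -/
theorem isClosed_le_N (n : ℕ) : ∀ {X Y : Scheme.{u}} (f : X ⟶ Y) [Etale f] [IsFinite f],
    IsClosed {y | (n : ℕ∞) ≤ N f y} := by
  induction n with
  | zero => intro X Y f _ _; simp
  | succ n ih =>
    intro X Y f _ _
    haveI := isClosedImmersion_offDiag f
    haveI : IsFinite (pullback.fst f f) := MorphismProperty.pullback_fst _ _ inferInstance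
    haveI : IsFinite (others f) := MorphismProperty.comp_mem _ _ _ inferInstance inferInstance
    rw [setOf_le_N_succ]
    exact f.isClosedMap _ (ih (others f))

omit [IsSeparated f] in
/-- The fibres of a quasi-compact étale morphism are finite. -/
theorem N_ne_top [QuasiCompact f] (y : Y) : N f y ≠ ⊤ := by
  let ξ : Spec (CommRingCat.of (SeparableClosure (Y.residueField y))) ⟶ Spec (Y.residueField y) :=
    Spec.map (CommRingCat.ofHom (algebraMap (Y.residueField y) (SeparableClosure (Y.residueField y))))
  let g : MoreMor.geomFiber f y ⟶ Spec (CommRingCat.of (SeparableClosure (Y.residueField y))) :=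
    pullback.snd (f.fiberToSpecResidueField y) ξ
  haveI : Etale g := MorphismProperty.of_isPullback (P := @Etale) (IsPullback.of_hasPullback _ _)
    (inferInstance : Etale (f.fiberToSpecResidueField y))
  haveI : QuasiCompact (f.fiberToSpecResidueField y) :=
    MorphismProperty.of_isPullback (P := @QuasiCompact) (IsPullback.of_hasPullback _ _) ‹_›
  haveI : QuasiCompact g := MorphismProperty.of_isPullback (P := @QuasiCompact) (IsPullback.of_hasPullback _ _)
    (inferInstance : QuasiCompact (f.fiberToSpecResidueField y))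
  haveI : CompactSpace (MoreMor.geomFiber f y) := QuasiCompact.compactSpace_of_compactSpace g
  haveI : LocallyQuasiFinite g := locallyQuasiFinite_of_etale g
  haveI : Finite (MoreMor.geomFiber f y) := by
    have : Set.univ = g ⁻¹' {(default : Spec (CommRingCat.of (SeparableClosure (Y.residueField y))))} := by
      ext z; simpa using Subsingleton.elim _ _
    exact Set.finite_univ_iff.mp (this ▸ g.finite_preimage_singleton _)
  exact (ENat.card_lt_top.mpr inferInstance).ne

omit f in
/-- Constant number of points implies finiteness. -/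
theorem isFinite_of_N_eq (n : ℕ) : ∀ {X Y : Scheme.{u}} (f : X ⟶ Y) [Etale f] [IsSeparated f] [QuasiCompact f],
    (∀ y, N f y = n) → IsFinite f := by
  induction n with
  | zero =>
    intro X Y f _ _ _ h
    haveI : IsEmpty X := ⟨fun x => by
      have := (N_pos_iff f (f x)).mpr ⟨x, rfl⟩
      rw [h] at this
      simp at this⟩
    infer_instance
  | succ n ih =>
    intro X Y f _ _ _ h
    haveI := isClosedImmersion_offDiag f
    haveI : IsFinite (others f) := ih (others f) fun x => by
      have := N_apply f x
      rw [h, Nat.cast_add, Nat.cast_one] at this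
      exact le_antisymm ((ENat.add_le_add_iff_right ENat.one_ne_top).mp this.ge)
        ((ENat.add_le_add_iff_right ENat.one_ne_top).mp this.le)
    haveI : Surjective f := ⟨fun y => (N_pos_iff f y).mp (by rw [h]; exact_mod_cast Nat.le_add_left 1 n)⟩
    have huc : UniversallyClosed (pullback.fst f f) := by
      let p : (offDiag f).toScheme ⨿ X ⟶ pullback f f := coprod.desc (offDiag f).ι (pullback.diagonal f)
      haveI : Surjective p := ⟨fun q => by
        by_cases hq : q ∈ offDiag f
        · refine ⟨(coprod.inl : (offDiag f).toScheme ⟶ _ ⨿ X) ⟨q, hq⟩, ?_⟩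
          exact congrArg (fun m : (offDiag f).toScheme ⟶ _ => m ⟨q, hq⟩) (coprod.inl_desc (offDiag f).ι (pullback.diagonal f))
        · obtain ⟨x, rfl⟩ : q ∈ Set.range (pullback.diagonal f) := not_not.mp hq
          refine ⟨(coprod.inr : X ⟶ (offDiag f).toScheme ⨿ X) x, ?_⟩
          exact congrArg (fun m : X ⟶ _ => m x) (coprod.inr_desc (offDiag f).ι (pullback.diagonal f))⟩
      haveI : UniversallyClosed (p ≫ pullback.fst f f) := by
        have : p ≫ pullback.fst f f = coprod.desc (others f) (𝟙 X) := by ext1 <;> simp [p, others]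
        rw [this]
        infer_instance
      exact UniversallyClosed.of_comp_surjective p (pullback.fst f f)
    haveI : UniversallyClosed f := MorphismProperty.of_pullback_fst_of_descendsAlong
      (Q := @Surjective ⊓ @Flat ⊓ @QuasiCompact) ⟨⟨‹Surjective f›, inferInstance⟩, inferInstance⟩ huc
    haveI : LocallyQuasiFinite f := locallyQuasiFinite_of_etale f
    haveI : IsProper f := ⟨⟩
    exact .of_isProper_of_locallyQuasiFinite _

omit [IsSeparated f] in
/-- The number of points does not change over an open of the base. -/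
theorem N_restrict (U : Y.Opens) (u : U.toScheme) : N (f ∣_ U) u = N f (U.ι u) := by
  obtain ⟨Ω, _, _, s, rfl⟩ := exists_point u
  rw [N, N, ← card_pts (f ∣_ U) s _ rfl, ← card_pts f (s ≫ U.ι) _ (Scheme.Hom.comp_apply _ _ _)]
  have sq := (isPullback_morphismRestrict f U).flip
  exact ENat.card_congr
    { toFun := fun z => ⟨z.1 ≫ (f ⁻¹ᵁ U).ι, by rw [Category.assoc, ← morphismRestrict_ι, ← Category.assoc, z.2]⟩
      invFun := fun w => ⟨sq.lift w.1 s w.2, sq.lift_snd _ _ _⟩
      left_inv := fun z => Subtype.ext (sq.hom_ext (sq.lift_fst _ _ _) ((sq.lift_snd _ _ _).trans z.2.symm))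
      right_inv := fun w => Subtype.ext (sq.lift_fst _ _ _) }

/-- Lower semicontinuity. -/
theorem lowerSemicontinuous_N : LowerSemicontinuous (N f) := by
  rw [lowerSemicontinuous_iff_isOpen_preimage]
  intro b
  induction b using ENat.recTopCoe with
  | top => simp
  | coe n =>
    convert isOpen_le_N (n + 1) f using 1
    ext y
    simp [ENat.add_one_le_iff]

omit [IsSeparated f] in
/-- Local constancy for finite morphisms. -/
theorem isLocallyConstant_N [IsFinite f] : IsLocallyConstant (N f) := by
  rw [IsLocallyConstant.iff_isOpen_fiber]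
  intro b
  induction b using ENat.recTopCoe with
  | top =>
    convert isOpen_empty
    ext y
    simpa using N_ne_top f y
  | coe n =>
    convert (isOpen_le_N n f).sdiff (isClosed_le_N (n + 1) f) using 1
    ext y
    simp only [Set.mem_preimage, Set.mem_singleton_iff, Set.mem_diff, Set.mem_setOf_eq, Nat.cast_add,
      Nat.cast_one, ENat.add_one_le_iff (ENat.coe_ne_top n), not_lt]
    exact ⟨fun h => ⟨h.ge, h.le⟩, fun h => le_antisymm h.2 h.1⟩

end Groth.Agent.EtCard
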